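import Groth.Agent.Lib.ProperNhd.Defs
import Groth.Agent.Lib.DVRVal.FunctionField
import Groth.Agent.Lib.ValCritRes.Criterion

/-!
Composite valuations: extension at a generization gives extension at a point.
-/

universe u

open CategoryTheory CategoryTheory.Limits AlgebraicGeometry IsLocalRing

namespace Groth.Agent.ProperNhd

variable {R : CommRingCat.{u}} {X : Scheme.{u}} (f : X ⟶ Spec R) [X.IsSeparated]

theorem rho_comp {K L : Type u} [Field K] [Field L] (e : CommRingCat.of K ⟶ CommRingCat.of L)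
    (σ : Spec (CommRingCat.of K) ⟶ X) (r : R) :
    rho f (Spec.map e ≫ σ) r = e.hom (rho f σ r) := by
  have : Spec.preimage ((Spec.map e ≫ σ) ≫ f) = Spec.preimage (σ ≫ f) ≫ e := Spec.map_injective <| by
    rw [Spec.map_preimage, Spec.map_comp, Spec.map_preimage, Category.assoc]
  exact congrArg (fun ψ : R ⟶ CommRingCat.of L => ψ.hom r) this

theorem lifts_of_generization_aux (y : PrimeSpectrum R) {K κ L : Type u} [Field K] [Field κ] [Field L]
    (σ : Spec (CommRingCat.of K) ⟶ X)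
    (H : ∀ V : ValuationSubring K, (∀ r, rho f σ r ∈ V) →
      (∀ r ∉ y.asIdeal, rho f σ r ≠ 0 ∧ (rho f σ r)⁻¹ ∈ V) → Lifts σ V)
    (σ₀ : Spec (CommRingCat.of κ) ⟶ X) (hsp : pt σ ⤳ pt σ₀)
    (hfac : ∀ (k : Type u) [Field k] (ψr : Spec (CommRingCat.of k) ⟶ X), pt ψr = pt σ₀ →
      ∃ j : κ →+* k, Spec.map (CommRingCat.ofHom j) ≫ σ₀ = ψr)
    (e' : κ →+* L) (W : ValuationSubring L)
    (hW' : ∀ r, e' (rho f σ₀ r) ∈ W)
    (hy' : ∀ r ∉ y.asIdeal, e' (rho f σ₀ r) ≠ 0 ∧ (e' (rho f σ₀ r))⁻¹ ∈ W) :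
    Lifts (Spec.map (CommRingCat.ofHom e') ≫ σ₀) W := by
  -- a valuation ring of `K` centred at `ξ`
  obtain ⟨V₀, ψ, hψ, hψξ⟩ := ValCritRes.exists_valuation σ (pt σ₀) hsp
  let k₀ := ResidueField V₀
  let π : V₀ →+* k₀ := residue V₀
  let ψr : Spec (CommRingCat.of k₀) ⟶ X := Spec.map (CommRingCat.ofHom π) ≫ ψ
  have hψrpt : pt ψr = pt σ₀ := by
    rw [← hψξ]
    exact congrArg ψ (IsLocalRing.comap_closedPoint π)
  obtain ⟨j, hj⟩ := hfac k₀ ψr hψrpt
  let W' : ValuationSubring κ := W.comap e'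
  obtain ⟨R₁, hR₁⟩ := DVRVal.exists_comap_eq j W'
  let V := DVRVal.compositeVal V₀ R₁
  let pre : R →+* V₀ := (Spec.preimage (ψ ≫ f)).hom
  have hpre : ∀ r, rho f σ r = (pre r : K) := fun r => by
    have : Spec.preimage (σ ≫ f) = Spec.preimage (ψ ≫ f) ≫ CommRingCat.ofHom V₀.subtype :=
      Spec.map_injective <| by
        rw [Spec.map_preimage, Spec.map_comp, Spec.map_preimage, reassoc_of% hψ]
    exact congrArg (fun ψ : R ⟶ CommRingCat.of K => ψ.hom r) this
  have hπ : ∀ r, π (pre r) = j (rho f σ₀ r) := fun r => by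
    have : Spec.preimage (ψ ≫ f) ≫ CommRingCat.ofHom π = Spec.preimage (σ₀ ≫ f) ≫ CommRingCat.ofHom j :=
      Spec.map_injective <| by
        rw [Spec.map_comp, Spec.map_comp, Spec.map_preimage, Spec.map_preimage, reassoc_of% hj,
          Category.assoc]
    exact congrArg (fun ψ : R ⟶ CommRingCat.of k₀ => ψ.hom r) this
  have hmemR₁ : ∀ z : κ, j z ∈ R₁ ↔ e' z ∈ W := fun z => by
    rw [← ValuationSubring.mem_comap (f := j), hR₁]; rfl
  have hlift : Lifts σ V := by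
    refine H V (fun r => ⟨pre r, ?_, (hpre r).symm⟩) fun r hr => ?_
    · show π (pre r) ∈ R₁
      rw [hπ, hmemR₁]
      exact hW' r
    · obtain ⟨h0, hinv⟩ := hy' r hr
      have hne : rho f σ₀ r ≠ 0 := fun h => h0 (by rw [h, map_zero])
      have hu : IsUnit (pre r) := by
        rw [← IsLocalRing.residue_ne_zero_iff_isUnit]
        show π (pre r) ≠ 0
        rw [hπ]; exact (map_ne_zero j).2 hne
      obtain ⟨c, hc⟩ := hu.exists_right_inv
      have hc1 : (pre r : K) * (c : K) = 1 := congrArg Subtype.val hc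
      refine ⟨hpre r ▸ left_ne_zero_of_mul_eq_one hc1, ⟨c, ?_, ?_⟩⟩
      · show π c ∈ R₁
        have hπc : π c = j ((rho f σ₀ r)⁻¹) := by
          rw [map_inv₀, ← hπ]
          exact eq_inv_of_mul_eq_one_right (by rw [← map_mul, hc, map_one])
        rw [hπc, hmemR₁, map_inv₀]
        exact hinv
      · show (c : K) = _
        rw [hpre, inv_eq_of_mul_eq_one_right hc1]
  obtain ⟨l, hl⟩ := hlift
  have hVV₀ : V.toSubring ≤ V₀.toSubring := by
    rintro z ⟨c, -, rfl⟩; exact c.2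
  let incl : V →+* V₀ := Subring.inclusion hVV₀
  have hlψ : Spec.map (CommRingCat.ofHom incl) ≫ l = ψ := by
    refine DVRVal.hom_ext_valuationRing (K := K) _ _ ?_
    change Spec.map (CommRingCat.ofHom V₀.subtype) ≫ _ = Spec.map (CommRingCat.ofHom V₀.subtype) ≫ _
    rw [← Spec.map_comp_assoc, hψ, ← hl]
    rfl
  let tR : V →+* R₁ := (π.comp incl).codRestrict R₁.toSubring fun z => by
    obtain ⟨c, hc, hcz⟩ := z.2
    have : c = incl z := Subtype.ext hcz
    show π (incl z) ∈ R₁.toSubring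
    rw [← this]; exact hc
  have hL1 : Lifts (Spec.map (CommRingCat.ofHom j) ≫ σ₀) R₁ := by
    refine ⟨Spec.map (CommRingCat.ofHom tR) ≫ l, ?_⟩
    rw [hj, ← Spec.map_comp_assoc]
    show Spec.map (CommRingCat.ofHom incl ≫ CommRingCat.ofHom π) ≫ l = ψr
    rw [Spec.map_comp_assoc, hlψ]
  obtain ⟨x, hx⟩ := hL1.exists_mem
  obtain ⟨_, ⟨U, hU, rfl⟩, hxU, -⟩ :=
    X.isBasis_affineOpens.exists_subset_of_mem_open (Set.mem_univ x) isOpen_univ
  obtain ⟨φ, hφ, hφV⟩ := hx U hU hxU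
  have hσ₀U : pt σ₀ ∈ U := by
    have : pt (Spec.map (CommRingCat.ofHom j) ≫ σ₀) = pt σ₀ := congrArg σ₀ (Subsingleton.elim _ _)
    rw [← this, ← hφ]
    exact pt_mem hU φ
  obtain ⟨φ₀, hφ₀⟩ := exists_hom_of_mem hU σ₀ hσ₀U
  have hφeq : φ = φ₀ ≫ CommRingCat.ofHom j := hom_unique hU (by rw [hφ, Spec.map_comp_assoc, hφ₀])
  rw [← hφ₀, ← Spec.map_comp_assoc]
  refine lifts_of_forall_mem hU _ W fun a => ?_
  show e' (φ₀.hom a) ∈ W
  rw [← hmemR₁]
  have := hφV a
  rwa [hφeq] at this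

/-- If every valuation of the field of `σ` whose centre is a generization of `y` extends, then the
same holds for the field valued points at specializations of `pt σ`. -/
theorem lifts_of_generization (y : PrimeSpectrum R) {K : Type u} [Field K]
    (σ : Spec (CommRingCat.of K) ⟶ X)
    (H : ∀ V : ValuationSubring K, (∀ r, rho f σ r ∈ V) →
      (∀ r ∉ y.asIdeal, rho f σ r ≠ 0 ∧ (rho f σ r)⁻¹ ∈ V) → Lifts σ V)
    {L : Type u} [Field L] (τ : Spec (CommRingCat.of L) ⟶ X) (hsp : pt σ ⤳ pt τ)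
    (W : ValuationSubring L) (hW : ∀ r, rho f τ r ∈ W)
    (hy : ∀ r ∉ y.asIdeal, rho f τ r ≠ 0 ∧ (rho f τ r)⁻¹ ∈ W) : Lifts τ W := by
  obtain ⟨e, he⟩ : ∃ e : X.residueField (pt τ) ⟶ CommRingCat.of L,
      Spec.map e ≫ X.fromSpecResidueField (pt τ) = τ :=
    ⟨_, Scheme.descResidueField_stalkClosedPointTo_fromSpecResidueField L X τ⟩
  generalize pt τ = ξ at e he hsp
  subst he
  have hr := rho_comp (K := X.residueField ξ) f e (X.fromSpecResidueField ξ)
  refine lifts_of_generization_aux (κ := X.residueField ξ) f y σ H (X.fromSpecResidueField ξ)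
    (hsp.trans (specializes_of_eq (Scheme.fromSpecResidueField_apply ξ _).symm))
    (fun k _ ψr h => ?_) e.hom W (fun r => hr r ▸ hW r) (fun r h => hr r ▸ hy r h)
  obtain ⟨j, hj⟩ : ∃ j : X.residueField (pt ψr) ⟶ CommRingCat.of k,
      Spec.map j ≫ X.fromSpecResidueField (pt ψr) = ψr :=
    ⟨_, Scheme.descResidueField_stalkClosedPointTo_fromSpecResidueField k X ψr⟩
  generalize pt ψr = ζ at j hj h
  obtain rfl : ζ = ξ := h.trans (Scheme.fromSpecResidueField_apply ξ _)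
  exact ⟨j.hom, hj⟩

end Groth.Agent.ProperNhd
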