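import Groth.Agent.Lib.ProperNhd.Defs
import Groth.Agent.Lib.DVRVal.Basic
import Mathlib.RingTheory.MvPolynomial.Basic

/-!
Valuations centred at a generization of `y` extend as soon as the discrete ones centred at `y` do.
-/

universe u

open CategoryTheory CategoryTheory.Limits AlgebraicGeometry IsLocalRing

namespace Groth.Agent.ProperNhd

variable {R : CommRingCat.{u}} {X : Scheme.{u}} (f : X ⟶ Spec R)

theorem lt_mul_aux {Γ : Type*} [LinearOrderedCommGroupWithZero Γ] {a b : Γ} (ha : a < 1) (hb : b ≤ 1) :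
    a * b < 1 :=
  mul_lt_one_of_nonneg_of_lt_one_left zero_le' ha hb

theorem lifts_of_dvr_of_essFiniteType [IsNoetherianRing R] [QuasiCompact f] (y : PrimeSpectrum R)
    {L : Type u} [Field L] (σ : Spec (CommRingCat.of L) ⟶ X) (hess : (rho f σ).EssFiniteType)
    (H : ∀ W : ValuationSubring L, IsDiscreteValuationRing W → (∀ r, rho f σ r ∈ W) →
      (∀ r, W.valuation (rho f σ r) < 1 ↔ r ∈ y.asIdeal) → Lifts σ W)
    (V : ValuationSubring L) (hρ : ∀ r, rho f σ r ∈ V)
    (hy : ∀ r ∉ y.asIdeal, rho f σ r ≠ 0 ∧ (rho f σ r)⁻¹ ∈ V) : Lifts σ V := by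
  classical
  by_contra hbad
  obtain ⟨s, hs⟩ := exists_finset_affine f
  let J := {U : X.affineOpens // U ∈ s ∧ pt σ ∈ U.1}
  have hJ : ∀ U : J, ∃ (φ : Γ(X, U.1.1) ⟶ CommRingCat.of L) (a : Γ(X, U.1.1)),
      Spec.map φ ≫ U.1.2.fromSpec = σ ∧ φ.hom a ∉ V := by
    intro U
    obtain ⟨φ, hφ⟩ := exists_hom_of_mem U.1.2 σ U.2.2
    by_contra h
    push Not at h
    exact hbad (hφ ▸ lifts_of_forall_mem U.1.2 φ V fun a => h φ a hφ)
  choose φ a hφ ha using hJ
  haveI : Finite J := Finite.of_injective (fun U : J => (⟨U.1, U.2.1⟩ : s)) fun U U' h =>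
    Subtype.ext (congrArg Subtype.val h :)
  have hz : ∀ U : J, ((φ U).hom (a U))⁻¹ ∈ V := fun U => (V.mem_or_inv_mem _).resolve_left (ha U)
  let ρV : R →+* V := (rho f σ).codRestrict V.toSubring hρ
  let zV : J → V := fun U => ⟨_, hz U⟩
  have hzm : ∀ U : J, residue V (zV U) = 0 := fun U => by
    rw [residue_eq_zero_iff, mem_maximalIdeal, mem_nonunits_iff]
    intro hu
    obtain ⟨c, hc⟩ := hu.exists_left_inv
    apply ha U
    have hne : (φ U).hom (a U) ≠ 0 := fun h0 => ha U (h0 ▸ V.zero_mem)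
    have hc' : (c : L) * ((φ U).hom (a U))⁻¹ = 1 := congrArg Subtype.val hc
    rw [← inv_inv ((φ U).hom (a U)), ← eq_inv_of_mul_eq_one_left hc']
    exact c.2
  let T := MvPolynomial J R
  let θV : T →+* V := MvPolynomial.eval₂Hom ρV zV
  let θ : T →+* L := V.subtype.comp θV
  have hres : (residue V).comp θV = ((residue V).comp ρV).comp MvPolynomial.constantCoeff := by
    refine MvPolynomial.ringHom_ext (fun r => ?_) (fun U => ?_)
    · simp [θV]
    · simp [θV, hzm]
  let Q : Ideal T := y.asIdeal.comap MvPolynomial.constantCoeff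
  haveI : Q.IsPrime := Ideal.IsPrime.comap _
  have hker : ∀ P : T, θ P = 0 → P ∈ Q := by
    intro P hP
    by_contra hPQ
    obtain ⟨h0, hinv⟩ := hy (MvPolynomial.constantCoeff P) hPQ
    have hu : IsUnit (ρV (MvPolynomial.constantCoeff P)) :=
      IsUnit.of_mul_eq_one ⟨_, hinv⟩ (Subtype.ext (mul_inv_cancel₀ h0))
    have hθ : θV P = 0 := Subtype.ext hP
    have := RingHom.congr_fun hres P
    simp only [RingHom.comp_apply, hθ, map_zero] at this
    exact (hu.map (residue V)).ne_zero this.symm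
  let O := Localization.AtPrime Q
  let φO : O →+* L := IsLocalization.lift (M := Q.primeCompl) (g := θ) fun P =>
    IsUnit.mk0 _ fun h => P.2 (hker _ h)
  have hφO : φO.comp (algebraMap T O) = θ := IsLocalization.lift_comp _
  have hC : ∀ r, φO (algebraMap T O (MvPolynomial.C r)) = rho f σ r := fun r => by
    rw [← RingHom.comp_apply φO, hφO]
    exact congrArg Subtype.val (MvPolynomial.eval₂Hom_C _ _ r)
  have hX : ∀ U : J, φO (algebraMap T O (MvPolynomial.X U)) = ((φ U).hom (a U))⁻¹ := fun U => by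
    rw [← RingHom.comp_apply φO, hφO]
    exact congrArg Subtype.val (MvPolynomial.eval₂Hom_X' _ _ U)
  have hessO : φO.EssFiniteType := by
    refine RingHom.EssFiniteType.of_comp ((algebraMap T O).comp MvPolynomial.C) ?_
    have : φO.comp ((algebraMap T O).comp MvPolynomial.C) = rho f σ := RingHom.ext hC
    rwa [this]
  have hQX : ∀ U : J, algebraMap T O (MvPolynomial.X U) ∈ maximalIdeal O := fun U =>
    (IsLocalization.AtPrime.to_map_mem_maximal_iff O Q _).2 (show MvPolynomial.constantCoeff (MvPolynomial.X U) ∈ y.asIdeal by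
      rw [MvPolynomial.constantCoeff_X]; exact zero_mem _)
  obtain ⟨U₀, hU₀, hσU₀⟩ := hs (pt σ)
  have hne : RingHom.ker φO ≠ maximalIdeal O := fun h => by
    have := hQX ⟨U₀, hU₀, hσU₀⟩
    rw [← h, RingHom.mem_ker, hX, inv_eq_zero] at this
    exact ha ⟨U₀, hU₀, hσU₀⟩ (this ▸ V.zero_mem)
  obtain ⟨W, hW, hmem, hlt⟩ := DVRVal.exists_dvr O L φO hessO hne
  have hlift : Lifts σ W := by
    refine H W hW (fun r => hC r ▸ hmem _) fun r => ⟨fun h => ?_, fun h => ?_⟩
    · by_contra hr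
      have hu : IsUnit (algebraMap T O (MvPolynomial.C r)) :=
        IsLocalization.map_units O (⟨MvPolynomial.C r, fun (hm : MvPolynomial.constantCoeff (MvPolynomial.C r) ∈ y.asIdeal) =>
          hr (by rwa [MvPolynomial.constantCoeff_C] at hm)⟩ :
          Q.primeCompl)
      obtain ⟨c, hc⟩ := hu.exists_right_inv
      have h1 : W.valuation (rho f σ r) * W.valuation (φO c) = 1 := by
        rw [← map_mul, ← hC, ← map_mul, hc, map_one, map_one]
      exact (lt_mul_aux h ((W.valuation_le_one_iff _).2 (hmem c))).ne h1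
    · rw [← hC]
      exact hlt _ ((IsLocalization.AtPrime.to_map_mem_maximal_iff O Q _).2 (show MvPolynomial.constantCoeff (MvPolynomial.C r) ∈ y.asIdeal by
        rw [MvPolynomial.constantCoeff_C]; exact h))
  obtain ⟨x, hx⟩ := hlift.exists_mem
  obtain ⟨U, hUs, hxU⟩ := hs x
  obtain ⟨ψ, hψ, hψW⟩ := hx U.1 U.2 hxU
  let Ui : J := ⟨U, hUs, hψ ▸ pt_mem U.2 ψ⟩
  have hψφ : ψ = φ Ui := hom_unique U.2 (hψ.trans (hφ Ui).symm)
  have h1 := hlt _ (hQX Ui)
  rw [hX] at h1
  have h2 : W.valuation ((φ Ui).hom (a Ui)) ≤ 1 := (W.valuation_le_one_iff _).2 (hψφ ▸ hψW (a Ui))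
  have h3 : (φ Ui).hom (a Ui) ≠ 0 := fun h0 => ha Ui (h0 ▸ V.zero_mem)
  have h4 : W.valuation ((φ Ui).hom (a Ui))⁻¹ * W.valuation ((φ Ui).hom (a Ui)) = 1 := by
    rw [← map_mul, inv_mul_cancel₀ h3, map_one]
  exact (lt_mul_aux h1 h2).ne h4

theorem essFiniteType_residueField [LocallyOfFiniteType f] (x : X) :
    (rho f (X.fromSpecResidueField x)).EssFiniteType := by
  obtain ⟨_, ⟨U, hU, rfl⟩, hxU, -⟩ :=
    X.isBasis_affineOpens.exists_subset_of_mem_open (Set.mem_univ x) isOpen_univ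
  let φ : Γ(X, U) ⟶ X.residueField x := X.presheaf.germ U x hxU ≫ X.residue x
  have e : X.fromSpecResidueField x = Spec.map φ ≫ hU.fromSpec := by
    rw [Scheme.fromSpecResidueField, ← IsAffineOpen.fromSpecStalk_eq_fromSpecStalk hU hxU,
      IsAffineOpen.fromSpecStalk]
    simp [φ]
  have : rho f (X.fromSpecResidueField x) = φ.hom.comp (alpha f hU).hom := by
    ext r
    rw [e]
    exact rho_fromSpec f hU φ r
  rw [this]
  refine (finiteType_alpha f hU).essFiniteType.comp ?_
  refine RingHom.EssFiniteType.comp ?_ (RingHom.FiniteType.of_surjective _ (X.residue_surjective x)).essFiniteType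
  letI : Algebra Γ(X, U) (X.presheaf.stalk x) := (X.presheaf.germ U x hxU).hom.toAlgebra
  haveI : IsLocalization.AtPrime (X.presheaf.stalk x) (hU.primeIdealOf ⟨x, hxU⟩).asIdeal :=
    hU.isLocalization_stalk ⟨x, hxU⟩
  exact RingHom.essFiniteType_algebraMap.mpr
    (Algebra.EssFiniteType.of_isLocalization _ (hU.primeIdealOf ⟨x, hxU⟩).asIdeal.primeCompl)

/-- Every valuation centred at a generization of `y` extends, if the discrete valuations of the
residue fields of the points centred at `y` do. -/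
theorem lifts_of_dvr [IsNoetherianRing R] [QuasiCompact f] [LocallyOfFiniteType f]
    (y : PrimeSpectrum R) {L : Type u} [Field L] (σ : Spec (CommRingCat.of L) ⟶ X)
    (H : ∀ W : ValuationSubring (X.residueField (pt σ)), IsDiscreteValuationRing W →
      (∀ r, rho f (X.fromSpecResidueField (pt σ)) r ∈ W) →
      (∀ r, W.valuation (rho f (X.fromSpecResidueField (pt σ)) r) < 1 ↔ r ∈ y.asIdeal) →
      Lifts (X.fromSpecResidueField (pt σ)) W)
    (V : ValuationSubring L) (hρ : ∀ r, rho f σ r ∈ V)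
    (hy : ∀ r ∉ y.asIdeal, rho f σ r ≠ 0 ∧ (rho f σ r)⁻¹ ∈ V) : Lifts σ V := by
  let ξ := pt σ
  obtain ⟨e, he⟩ : ∃ e : X.residueField ξ ⟶ CommRingCat.of L, Spec.map e ≫ X.fromSpecResidueField ξ = σ :=
    ⟨_, Scheme.descResidueField_stalkClosedPointTo_fromSpecResidueField L X σ⟩
  let σ₀ : Spec (CommRingCat.of (X.residueField ξ)) ⟶ X := X.fromSpecResidueField ξ
  have hr : ∀ r, rho f σ r = e.hom (rho f σ₀ r) := by
    intro r
    rw [← he]
    have : Spec.preimage ((Spec.map e ≫ X.fromSpecResidueField ξ) ≫ f) =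
        Spec.preimage (σ₀ ≫ f) ≫ e := Spec.map_injective <| by
      rw [Spec.map_preimage, Spec.map_comp, Spec.map_preimage, Category.assoc]
    exact congrArg (fun ψ : R ⟶ CommRingCat.of L => ψ.hom r) this
  let e' : X.residueField ξ →+* L := e.hom
  obtain ⟨l, hl⟩ := lifts_of_dvr_of_essFiniteType f y σ₀ (essFiniteType_residueField f ξ) H (V.comap e')
    (fun r => show e' _ ∈ V from hr r ▸ hρ r) fun r hr' => by
      obtain ⟨h1, h2⟩ := hy r hr'
      refine ⟨fun h => h1 (by rw [hr, h, map_zero]), ?_⟩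
      show e' _ ∈ V
      rw [map_inv₀]
      exact hr r ▸ h2
  let m : ↥(V.comap e') →+* V := (e'.comp (V.comap e').subtype).codRestrict V.toSubring fun z => z.2
  refine ⟨Spec.map (CommRingCat.ofHom m) ≫ l, ?_⟩
  rw [← he, show X.fromSpecResidueField ξ = σ₀ from rfl, ← hl, ← Spec.map_comp_assoc, ← Spec.map_comp_assoc]
  rfl

end Groth.Agent.ProperNhd
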