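import Groth.Agent.Lib.ProperNhd.Spread
import Groth.Agent.Lib.ProperNhd.Dvr
import Mathlib.AlgebraicGeometry.Morphisms.Proper

/-!
Properness over a neighbourhood from valuative extension properties.
-/

universe u

open CategoryTheory CategoryTheory.Limits AlgebraicGeometry IsLocalRing

namespace Groth.Agent.ProperNhd

section Affine

variable {R : CommRingCat.{u}} {X : Scheme.{u}} (f : X ⟶ Spec R)

/-- The basic open of `Spec R` given by `g`. -/
abbrev bOpen (g : R) : (Spec R).Opens := PrimeSpectrum.basicOpen g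

theorem rho_mem {L : Type u} [Field L] (σ : Spec (CommRingCat.of L) ⟶ X) (V : ValuationSubring L)
    (c : Spec (CommRingCat.of V) ⟶ Spec R)
    (hc : Spec.map (CommRingCat.ofHom V.subtype) ≫ c = σ ≫ f) (r : R) :
    rho f σ r = ((Spec.preimage c).hom r : L) := by
  have : Spec.preimage (σ ≫ f) = Spec.preimage c ≫ CommRingCat.ofHom V.subtype := Spec.map_injective <| by
    rw [Spec.map_preimage, Spec.map_comp, Spec.map_preimage, hc]
  exact congrArg (fun ψ : R ⟶ CommRingCat.of L => ψ.hom r) this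

theorem centre_bOpen {L : Type u} [Field L] (σ : Spec (CommRingCat.of L) ⟶ X) (V : ValuationSubring L)
    (c : Spec (CommRingCat.of V) ⟶ Spec R)
    (hc : Spec.map (CommRingCat.ofHom V.subtype) ≫ c = σ ≫ f) (g : R)
    (hg : c (closedPoint V) ∈ bOpen g) : rho f σ g ≠ 0 ∧ (rho f σ g)⁻¹ ∈ V := by
  have hu : IsUnit ((Spec.preimage c).hom g) := by
    by_contra h
    have h1 : c (closedPoint V) = Spec.map (Spec.preimage c) (closedPoint V) := by rw [Spec.map_preimage]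
    rw [h1] at hg
    exact hg h
  obtain ⟨u, hu'⟩ := hu.exists_right_inv
  have h2 : rho f σ g * (u : L) = 1 := by
    rw [rho_mem f σ V c hc]
    exact congrArg Subtype.val hu'
  refine ⟨left_ne_zero_of_mul_eq_one h2, ?_⟩
  rw [inv_eq_of_mul_eq_one_right h2]
  exact u.2

/-- A valuative square over a basic open has a lift as soon as its field valued point extends. -/
theorem exists_lift_of_lifts (g : R) {A K : Type u} [CommRing A] [IsDomain A] [ValuationRing A] [Field K]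
    [Algebra A K] [IsFractionRing A K] (i₁ : Spec (CommRingCat.of K) ⟶ ((f ⁻¹ᵁ bOpen g) : Scheme.{u}))
    (i₂ : Spec (CommRingCat.of A) ⟶ ((bOpen g : (Spec R).Opens) : Scheme.{u}))
    (w : i₁ ≫ (f ∣_ bOpen g) = Spec.map (CommRingCat.ofHom (algebraMap A K)) ≫ i₂)
    (H : ∀ V : ValuationSubring K, (∀ r, rho f (i₁ ≫ (f ⁻¹ᵁ bOpen g).ι) r ∈ V) →
      (rho f (i₁ ≫ (f ⁻¹ᵁ bOpen g).ι) g ≠ 0 ∧ (rho f (i₁ ≫ (f ⁻¹ᵁ bOpen g).ι) g)⁻¹ ∈ V) →
      Lifts (i₁ ≫ (f ⁻¹ᵁ bOpen g).ι) V) :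
    ∃ l : Spec (CommRingCat.of A) ⟶ ((f ⁻¹ᵁ bOpen g) : Scheme.{u}),
      Spec.map (CommRingCat.ofHom (algebraMap A K)) ≫ l = i₁ ∧ l ≫ (f ∣_ bOpen g) = i₂ := by
  let V : ValuationSubring K := (ValuationRing.valuation A K).valuationSubring
  have hV (z : K) : z ∈ V ↔ z ∈ (algebraMap A K).range := ValuationRing.mem_integer_iff A K z
  let m : A →+* V := (algebraMap A K).codRestrict V.toSubring fun a => (hV _).2 ⟨a, rfl⟩
  let mi : A ≃+* V := RingEquiv.ofBijective m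
    ⟨fun a b h => IsFractionRing.injective A K (congrArg Subtype.val h), fun z => by
      obtain ⟨a, ha⟩ := (hV z).1 z.2
      exact ⟨a, Subtype.ext ha⟩⟩
  let σ : Spec (CommRingCat.of K) ⟶ X := i₁ ≫ (f ⁻¹ᵁ bOpen g).ι
  have h1 : Spec.map (CommRingCat.ofHom (algebraMap A K)) =
      Spec.map (CommRingCat.ofHom V.subtype) ≫ Spec.map (CommRingCat.ofHom m) := by
    rw [← Spec.map_comp]; rfl
  let c : Spec (CommRingCat.of V) ⟶ Spec R := Spec.map (CommRingCat.ofHom m) ≫ i₂ ≫ (bOpen g).ι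
  have hc : Spec.map (CommRingCat.ofHom V.subtype) ≫ c = σ ≫ f := by
    rw [show σ ≫ f = i₁ ≫ (f ∣_ bOpen g) ≫ (bOpen g).ι by rw [morphismRestrict_ι]; simp [σ],
      reassoc_of% w]
    simp only [c, ← Category.assoc, ← h1]
  obtain ⟨l, hl⟩ := H V (fun r => rho_mem f σ V c hc r ▸ ((Spec.preimage c).hom r).2)
    (centre_bOpen f σ V c hc g (Subtype.coe_prop (i₂ (Spec.map (CommRingCat.ofHom m) (closedPoint V)))))
  let l' : Spec (CommRingCat.of A) ⟶ X := Spec.map (CommRingCat.ofHom (mi.symm : V →+* A)) ≫ l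
  have hl' : Spec.map (CommRingCat.ofHom (algebraMap A K)) ≫ l' = σ := by
    show _ = i₁ ≫ (f ⁻¹ᵁ bOpen g).ι
    rw [← hl, ← Spec.map_comp_assoc]
    congr 1
    rw [← CommRingCat.ofHom_comp]
    congr 2
    ext z
    exact congrArg Subtype.val (mi.apply_symm_apply z)
  have hover : l' ≫ f = i₂ ≫ (bOpen g).ι := by
    rw [← Spec.map_preimage (l' ≫ f), ← Spec.map_preimage (i₂ ≫ (bOpen g).ι)]
    congr 1
    ext r
    apply IsFractionRing.injective A K
    have hp : Spec.preimage (l' ≫ f) ≫ CommRingCat.ofHom (algebraMap A K) =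
        Spec.preimage (i₂ ≫ (bOpen g).ι) ≫ CommRingCat.ofHom (algebraMap A K) := Spec.map_injective <| by
      rw [Spec.map_comp, Spec.map_comp, Spec.map_preimage, Spec.map_preimage, reassoc_of% hl', ← hc]
      simp only [c, ← Category.assoc, ← h1]
    exact congrArg (fun ψ : R ⟶ CommRingCat.of K => ψ.hom r) hp
  have hrange : Set.range l' ⊆ Set.range (f ⁻¹ᵁ bOpen g).ι := by
    rw [Scheme.Opens.range_ι]
    rintro _ ⟨p, rfl⟩
    show f (l' p) ∈ bOpen g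
    rw [← Scheme.Hom.comp_apply, hover]
    exact Subtype.coe_prop (i₂ p)
  refine ⟨IsOpenImmersion.lift (f ⁻¹ᵁ bOpen g).ι l' hrange, ?_, ?_⟩
  · rw [← cancel_mono (f ⁻¹ᵁ bOpen g).ι, Category.assoc, IsOpenImmersion.lift_fac, hl']
  · rw [← cancel_mono (bOpen g).ι, Category.assoc, morphismRestrict_ι, IsOpenImmersion.lift_fac_assoc,
      hover]

/-- The existence part of the valuative criterion over a basic open. -/
theorem existence_of_lifts (g : R)
    (H : ∀ (L : Type u) [Field L] (σ : Spec (CommRingCat.of L) ⟶ X) (V : ValuationSubring L),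
      (∀ r, rho f σ r ∈ V) → (rho f σ g ≠ 0 ∧ (rho f σ g)⁻¹ ∈ V) → Lifts σ V) :
    ValuativeCriterion.Existence (f ∣_ bOpen g) := by
  rintro ⟨A, K, i₁, i₂, ⟨w⟩⟩
  obtain ⟨l, h1, h2⟩ := exists_lift_of_lifts f g i₁ i₂ w fun V => H K _ V
  exact ⟨⟨⟨l, h1, h2⟩⟩⟩

/-- The existence part of the valuative criterion on a closed subscheme over a basic open. -/
theorem existence_comp_of_lifts (g : R) {T : Scheme.{u}} (p : T ⟶ ((f ⁻¹ᵁ bOpen g) : Scheme.{u}))
    [IsClosedImmersion p] (C : Set X) (hp : ∀ t, (f ⁻¹ᵁ bOpen g).ι (p t) ∈ C)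
    (H : ∀ (L : Type u) [Field L] (σ : Spec (CommRingCat.of L) ⟶ X) (V : ValuationSubring L),
      pt σ ∈ C → (∀ r, rho f σ r ∈ V) → (rho f σ g ≠ 0 ∧ (rho f σ g)⁻¹ ∈ V) → Lifts σ V) :
    ValuativeCriterion.Existence (p ≫ (f ∣_ bOpen g)) := by
  rintro ⟨A, K, i₁, i₂, ⟨w⟩⟩
  obtain ⟨l, h1, h2⟩ := exists_lift_of_lifts f g (i₁ ≫ p) i₂ (by rw [Category.assoc, w])
    fun V => H K _ V (hp _)
  have hex : ValuativeCriterion.Existence p := by
    have h : @UniversallyClosed _ _ p := inferInstance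
    rw [UniversallyClosed.eq_valuativeCriterion] at h
    exact h.1
  obtain ⟨m, h3, h4⟩ := (hex { R := A, K := K, i₁ := i₁, i₂ := l, commSq := ⟨h1.symm⟩ }).exists_lift
  exact ⟨⟨⟨m, h3, by rw [reassoc_of% h4, h2]⟩⟩⟩

variable [IsSeparated f] [QuasiCompact f] [LocallyOfFiniteType f]

theorem isProper_of_existence (g : R) (h : ValuativeCriterion.Existence (f ∣_ bOpen g)) :
    IsProper (f ∣_ bOpen g) := by
  haveI : UniversallyClosed (f ∣_ bOpen g) := UniversallyClosed.of_valuativeCriterion _ h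
  haveI : LocallyOfFiniteType (f ∣_ bOpen g) :=
    IsZariskiLocalAtTarget.restrict (P := @LocallyOfFiniteType) ‹_› _
  constructor

end Affine

variable {X Y : Scheme.{u}} (f : X ⟶ Y)

/-- The morphism over the spectrum of the sections over an affine open. -/
noncomputable abbrev affPart {U : Y.Opens} (hU : IsAffineOpen U) :
    ((f ⁻¹ᵁ U) : Scheme.{u}) ⟶ Spec Γ(Y, U) := (f ∣_ U) ≫ hU.isoSpec.hom

theorem affPart_fromSpec {U : Y.Opens} (hU : IsAffineOpen U) :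
    affPart f hU ≫ hU.fromSpec = (f ⁻¹ᵁ U).ι ≫ f := by
  rw [affPart, Category.assoc, hU.isoSpec_hom_fromSpec, morphismRestrict_ι]

theorem exists_isProper_of_affine (y : Y)
    (H : ∀ (U : Y.Opens) (hU : IsAffineOpen U) (hy : y ∈ U),
      ∃ g ∉ (hU.primeIdealOf ⟨y, hy⟩).asIdeal, IsProper (affPart f hU ∣_ bOpen g)) :
    ∃ U : Y.Opens, y ∈ U ∧ IsProper (f ∣_ U) := by
  obtain ⟨_, ⟨U, hU, rfl⟩, hy, -⟩ :=
    Y.isBasis_affineOpens.exists_subset_of_mem_open (Set.mem_univ y) isOpen_univ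
  revert U
  intro (U : Y.Opens) hU hy
  obtain ⟨g, hg, hp⟩ := H U hU hy
  rw [affPart, morphismRestrict_comp] at hp
  have h2 : IsProper ((f ∣_ U) ∣_ (hU.isoSpec.hom ⁻¹ᵁ bOpen g)) :=
    (MorphismProperty.cancel_right_of_respectsIso (P := @IsProper) _
      (hU.isoSpec.hom ∣_ bOpen g)).1 hp
  refine ⟨U.ι ''ᵁ (hU.isoSpec.hom ⁻¹ᵁ bOpen g),
    ⟨⟨y, hy⟩, show hU.isoSpec.hom ⟨y, hy⟩ ∈ bOpen g from hg, rfl⟩, ?_⟩
  exact (MorphismProperty.arrow_mk_iso_iff @IsProper (morphismRestrictRestrict f U _)).1 h2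

/-- Restricting to a basic open of an affine open. -/
theorem exists_restrict_iso {U : Y.Opens} (hU : IsAffineOpen U) (g : Γ(Y, U)) :
    ∃ e : ((f ⁻¹ᵁ (hU.fromSpec ''ᵁ bOpen g)) : Scheme.{u}) ≅ ((affPart f hU ⁻¹ᵁ bOpen g) : Scheme.{u}),
      e.hom ≫ (affPart f hU ⁻¹ᵁ bOpen g).ι ≫ (f ⁻¹ᵁ U).ι = (f ⁻¹ᵁ (hU.fromSpec ''ᵁ bOpen g)).ι ∧
      f ∣_ (hU.fromSpec ''ᵁ bOpen g) =
        e.hom ≫ (affPart f hU ∣_ bOpen g) ≫ (hU.fromSpec.isoImage (bOpen g)).hom := by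
  have hr : Set.range (f ⁻¹ᵁ (hU.fromSpec ''ᵁ bOpen g)).ι =
      Set.range ((affPart f hU ⁻¹ᵁ bOpen g).ι ≫ (f ⁻¹ᵁ U).ι) := by
    ext x
    rw [Scheme.Opens.range_ι]
    constructor
    · intro hx
      obtain ⟨q, hq, hqx⟩ : f x ∈ hU.fromSpec '' (bOpen g : Set (Spec Γ(Y, U))) := hx
      have hxU : x ∈ f ⁻¹ᵁ U := show f x ∈ U from hqx ▸ hU.range_fromSpec.le ⟨q, rfl⟩
      refine ⟨⟨⟨x, hxU⟩, ?_⟩, rfl⟩
      show affPart f hU ⟨x, hxU⟩ ∈ bOpen g
      have h2 : hU.fromSpec (affPart f hU ⟨x, hxU⟩) = hU.fromSpec q := by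
        rw [← Scheme.Hom.comp_apply, affPart_fromSpec, hqx]; rfl
      exact hU.fromSpec.isOpenEmbedding.injective h2 ▸ hq
    · rintro ⟨⟨z, hz⟩, rfl⟩
      refine ⟨affPart f hU z, hz, ?_⟩
      show (affPart f hU ≫ hU.fromSpec) z = _
      rw [affPart_fromSpec]; rfl
  refine ⟨IsOpenImmersion.isoOfRangeEq _ _ hr, IsOpenImmersion.isoOfRangeEq_hom_fac _ _ hr, ?_⟩
  rw [← cancel_mono (hU.fromSpec ''ᵁ bOpen g).ι, morphismRestrict_ι]
  simp only [Category.assoc, Scheme.Hom.isoImage_hom_ι, morphismRestrict_ι_assoc, affPart_fromSpec]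
  exact ((IsOpenImmersion.isoOfRangeEq_hom_fac_assoc _ _ hr f).symm.trans (by simp [Category.assoc]))

end Groth.Agent.ProperNhd
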