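import Mathlib.AlgebraicGeometry.ValuativeCriterion
import Mathlib.AlgebraicGeometry.Morphisms.FiniteType
import Mathlib.RingTheory.Valuation.ValuationSubring

/-!
Points of a scheme with values in a field and a valuation subring of it.
-/

universe u

open CategoryTheory CategoryTheory.Limits AlgebraicGeometry IsLocalRing

namespace Groth.Agent.ProperNhd

variable {X : Scheme.{u}} {L : Type u} [Field L]

/-- The point of the field valued point `σ`. -/
noncomputable abbrev pt (σ : Spec (CommRingCat.of L) ⟶ X) : X := σ (closedPoint L)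

/-- `σ` extends to the valuation ring `V`. -/
def Lifts (σ : Spec (CommRingCat.of L) ⟶ X) (V : ValuationSubring L) : Prop :=
  ∃ l : Spec (CommRingCat.of V) ⟶ X, Spec.map (CommRingCat.ofHom V.subtype) ≫ l = σ

theorem exists_hom_of_mem {U : X.Opens} (hU : IsAffineOpen U) (σ : Spec (CommRingCat.of L) ⟶ X)
    (h : pt σ ∈ U) : ∃ φ : Γ(X, U) ⟶ CommRingCat.of L, Spec.map φ ≫ hU.fromSpec = σ := by
  have hr : Set.range σ ⊆ Set.range hU.fromSpec := by
    rw [hU.range_fromSpec]
    rintro _ ⟨p, rfl⟩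
    rwa [Subsingleton.elim p (closedPoint L)]
  exact ⟨Spec.preimage (IsOpenImmersion.lift hU.fromSpec σ hr), by
    rw [Spec.map_preimage, IsOpenImmersion.lift_fac]⟩

theorem hom_unique {U : X.Opens} (hU : IsAffineOpen U) {φ φ' : Γ(X, U) ⟶ CommRingCat.of L}
    (h : Spec.map φ ≫ hU.fromSpec = Spec.map φ' ≫ hU.fromSpec) : φ = φ' :=
  Spec.map_injective ((cancel_mono hU.fromSpec).1 h)

theorem pt_mem {U : X.Opens} (hU : IsAffineOpen U) (φ : Γ(X, U) ⟶ CommRingCat.of L) :
    pt (Spec.map φ ≫ hU.fromSpec) ∈ U :=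
  hU.range_fromSpec.le ⟨Spec.map φ (closedPoint L), rfl⟩

theorem pt_mem_basicOpen {U : X.Opens} (hU : IsAffineOpen U) (φ : Γ(X, U) ⟶ CommRingCat.of L)
    (b : Γ(X, U)) : pt (Spec.map φ ≫ hU.fromSpec) ∈ X.basicOpen b ↔ φ.hom b ≠ 0 := by
  show Spec.map φ (closedPoint L) ∈ hU.fromSpec ⁻¹ᵁ X.basicOpen b ↔ _
  rw [hU.fromSpec_preimage_basicOpen b]
  show b ∉ Ideal.comap φ.hom (maximalIdeal L) ↔ _
  rw [Ideal.mem_comap, IsLocalRing.isField_iff_maximalIdeal_eq.1 (Field.toIsField L)]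
  rfl

theorem lifts_of_forall_mem {U : X.Opens} (hU : IsAffineOpen U) (φ : Γ(X, U) ⟶ CommRingCat.of L)
    (V : ValuationSubring L) (h : ∀ a, φ.hom a ∈ V) : Lifts (Spec.map φ ≫ hU.fromSpec) V := by
  refine ⟨Spec.map (CommRingCat.ofHom (φ.hom.codRestrict V.toSubring h)) ≫ hU.fromSpec, ?_⟩
  rw [← Spec.map_comp_assoc]
  rfl

theorem Lifts.exists_mem {σ : Spec (CommRingCat.of L) ⟶ X} {V : ValuationSubring L} (hl : Lifts σ V) :
    ∃ x : X, ∀ (U : X.Opens) (hU : IsAffineOpen U), x ∈ U →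
      ∃ φ : Γ(X, U) ⟶ CommRingCat.of L, Spec.map φ ≫ hU.fromSpec = σ ∧ ∀ a, φ.hom a ∈ V := by
  obtain ⟨l, rfl⟩ := hl
  refine ⟨l (closedPoint V), fun U hU hx => ?_⟩
  have hr : Set.range l ⊆ Set.range hU.fromSpec := by
    rw [hU.range_fromSpec]
    rintro _ ⟨p, rfl⟩
    exact ((specializes_closedPoint p).map l.continuous).mem_open U.2 hx
  refine ⟨Spec.preimage (IsOpenImmersion.lift hU.fromSpec l hr) ≫ CommRingCat.ofHom V.subtype, ?_,
    fun a => Subtype.coe_prop _⟩
  rw [Spec.map_comp, Spec.map_preimage, Category.assoc, IsOpenImmersion.lift_fac]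

section Over

variable {R : CommRingCat.{u}} (f : X ⟶ Spec R)

/-- The homomorphism to the field of a field valued point. -/
noncomputable def rho (σ : Spec (CommRingCat.of L) ⟶ X) : R →+* L := (Spec.preimage (σ ≫ f)).hom

/-- The homomorphism to the sections over an affine open. -/
noncomputable def alpha {U : X.Opens} (hU : IsAffineOpen U) : R ⟶ Γ(X, U) :=
  Spec.preimage (hU.fromSpec ≫ f)

theorem map_rho (σ : Spec (CommRingCat.of L) ⟶ X) :
    Spec.map (CommRingCat.ofHom (rho f σ)) = σ ≫ f := Spec.map_preimage _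

theorem rho_fromSpec {U : X.Opens} (hU : IsAffineOpen U) (φ : Γ(X, U) ⟶ CommRingCat.of L) (r : R) :
    rho f (Spec.map φ ≫ hU.fromSpec) r = φ.hom ((alpha f hU).hom r) := by
  have : Spec.preimage ((Spec.map φ ≫ hU.fromSpec) ≫ f) = alpha f hU ≫ φ := Spec.map_injective <| by
    rw [Spec.map_preimage, Spec.map_comp, alpha, Spec.map_preimage, Category.assoc]
  exact congrArg (fun ψ : R ⟶ CommRingCat.of L => ψ.hom r) this

theorem finiteType_alpha [LocallyOfFiniteType f] {U : X.Opens} (hU : IsAffineOpen U) :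
    (alpha f hU).hom.FiniteType := by
  rw [← HasRingHomProperty.Spec_iff (P := @LocallyOfFiniteType), alpha, Spec.map_preimage]
  infer_instance

theorem exists_finset_affine [QuasiCompact f] :
    ∃ s : Finset X.affineOpens, ∀ x : X, ∃ U ∈ s, x ∈ U.1 := by
  haveI : CompactSpace X := QuasiCompact.compactSpace_of_compactSpace f
  obtain ⟨t, ht⟩ := isCompact_univ.elim_finite_subcover (fun U : X.affineOpens => (U.1 : Set X))
    (fun U => U.1.2) (fun x _ => by
      obtain ⟨_, ⟨U, hU, rfl⟩, hx, -⟩ :=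
        X.isBasis_affineOpens.exists_subset_of_mem_open (Set.mem_univ x) isOpen_univ
      exact Set.mem_iUnion.2 ⟨⟨U, hU⟩, hx⟩)
  refine ⟨t, fun x => ?_⟩
  have := ht (Set.mem_univ x)
  simpa using this

end Over

end Groth.Agent.ProperNhd
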