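import Groth.Agent.Lib.ProperNhd.Ultra
import Groth.Agent.Lib.ProperNhd.Defs

/-!
Valuative properness spreads out from a point of an affine base.
-/

universe u

open CategoryTheory CategoryTheory.Limits AlgebraicGeometry IsLocalRing Filter

namespace Groth.Agent.ProperNhd

variable {R : CommRingCat.{u}} {X : Scheme.{u}} (f : X ⟶ Spec R) [IsSeparated f] [QuasiCompact f]
  [LocallyOfFiniteType f]

/-- If all valuations centred at generizations of `y` extend, so do all valuations centred in some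
neighbourhood of `y`. The points considered lie in all members of `𝒲` and in the closed set `C`. -/
theorem exists_notMem_forall_lifts_inter (y : PrimeSpectrum R) (𝒲 : Set X.affineOpens)
    (C : Set X) (hC : IsClosed C)
    (H : ∀ (L : Type u) [Field L] (σ : Spec (CommRingCat.of L) ⟶ X) (V : ValuationSubring L),
      (∀ W ∈ 𝒲, pt σ ∈ W.1) → pt σ ∈ C → (∀ r, rho f σ r ∈ V) →
      (∀ r ∉ y.asIdeal, rho f σ r ≠ 0 ∧ (rho f σ r)⁻¹ ∈ V) → Lifts σ V) :
    ∃ g ∉ y.asIdeal, ∀ (L : Type u) [Field L] (σ : Spec (CommRingCat.of L) ⟶ X) (V : ValuationSubring L),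
      (∀ W ∈ 𝒲, pt σ ∈ W.1) → pt σ ∈ C → (∀ r, rho f σ r ∈ V) →
      (rho f σ g ≠ 0 ∧ (rho f σ g)⁻¹ ∈ V) → Lifts σ V := by
  classical
  by_contra hcon
  push Not at hcon
  let ι := {g : R // g ∉ y.asIdeal}
  choose L hLf σ V hW hCmem hρ hg hbad using fun i : ι => hcon i.1 i.2
  let F₀ : Filter ι := ⨅ i : ι, 𝓟 {h : ι | i.1 ∣ h.1}
  haveI : Nonempty ι := ⟨⟨1, fun h => y.isPrime.ne_top ((Ideal.eq_top_iff_one _).2 h)⟩⟩
  haveI : F₀.NeBot := by
    refine iInf_neBot_of_directed' (fun a b => ⟨⟨a.1 * b.1, fun h => (y.isPrime.mem_or_mem h).elim a.2 b.2⟩,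
      principal_mono.2 fun h hh => dvd_trans (dvd_mul_right _ _) hh,
      principal_mono.2 fun h hh => dvd_trans (dvd_mul_left _ _) hh⟩) fun i => ?_
    exact principal_neBot_iff.2 ⟨i, dvd_rfl⟩
  let F : Ultrafilter ι := Ultrafilter.of F₀
  have hF : ∀ i : ι, ∀ᶠ h in (F : Filter ι), i.1 ∣ h.1 := fun i =>
    Ultrafilter.of_le F₀ (mem_iInf_of_mem i (mem_principal_self _))
  obtain ⟨s, hs⟩ := exists_finset_affine f
  -- an affine open containing almost all the points
  obtain ⟨U, hUs, hUev⟩ : ∃ U ∈ s, ∀ᶠ i in (F : Filter ι), pt (σ i) ∈ U.1 := by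
    by_contra h
    push Not at h
    have : ∀ᶠ i in (F : Filter ι), ∀ U ∈ s, pt (σ i) ∉ U.1 :=
      (Filter.eventually_all_finset s).2 fun U hU => h U hU
    obtain ⟨i, hi⟩ := this.exists
    obtain ⟨U, hU, hxU⟩ := hs (pt (σ i))
    exact hi U hU hxU
  let S : Set ι := {i | pt (σ i) ∈ U.1}
  have hS : S ∈ F := hUev
  choose φ hφ using fun (i : ι) (hi : i ∈ S) => exists_hom_of_mem U.2 (σ i) (show pt (σ i) ∈ U.1 from hi)
  let φu : Γ(X, U.1) ⟶ CommRingCat.of (UProd F L) :=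
    CommRingCat.ofHom (extendHom hS fun i hi => (φ i hi).hom)
  let σu : Spec (CommRingCat.of (UProd F L)) ⟶ X := Spec.map φu ≫ U.2.fromSpec
  let Vu : ValuationSubring (UProd F L) := uVal F V
  have hρu : ∀ r, rho f σu r = toUProd F L fun i => rho f (σ i) r := by
    intro r
    rw [rho_fromSpec, show φu.hom ((alpha f U.2).hom r) = _ from extendHom_apply hS _ _, toUProd_eq]
    filter_upwards [hS] with i hi
    rw [dif_pos hi]
    conv_rhs => rw [← hφ i hi, rho_fromSpec]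
  have hφu : ∀ b, φu.hom b ≠ 0 ↔ ∀ᶠ i in (F : Filter ι), pt (σ i) ∈ X.basicOpen b := by
    intro b
    rw [show φu.hom b = _ from extendHom_apply hS _ _, Ne, toUProd_eq_zero, ← Ultrafilter.eventually_not]
    refine ⟨fun h => ?_, fun h => ?_⟩
    · filter_upwards [h, hS] with i h1 hi
      rw [dif_pos hi] at h1
      rw [← hφ i hi, pt_mem_basicOpen]
      exact h1
    · filter_upwards [h, hS] with i h1 hi
      rw [← hφ i hi, pt_mem_basicOpen] at h1
      rw [dif_pos hi]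
      exact h1
  have hlift : Lifts σu Vu := by
    refine H _ σu Vu (fun W hW' => ?_) ?_ (fun r => ?_) (fun r hr => ?_)
    · haveI : X.IsSeparated := ⟨by rw [← terminal.comp_from f]; infer_instance⟩
      haveI : QuasiSeparatedSpace X := inferInstance
      have hc : IsCompact ((U.1 : Set X) ∩ W.1) :=
        QuasiSeparatedSpace.inter_isCompact _ _ U.1.2 U.2.isCompact W.1.2 W.2.isCompact
      obtain ⟨t, ht⟩ := hc.elim_finite_subcover
        (fun b : {b : Γ(X, U.1) // X.basicOpen b ≤ W.1} => (X.basicOpen b.1 : Set X))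
        (fun b => (X.basicOpen b.1).2) (fun x hx => by
          obtain ⟨b, hb, hxb⟩ := U.2.exists_basicOpen_le (V := W.1) ⟨x, hx.2⟩ hx.1
          exact Set.mem_iUnion.2 ⟨⟨b, hb⟩, hxb⟩)
      obtain ⟨b, -, hb⟩ : ∃ b ∈ t, ∀ᶠ i in (F : Filter ι), pt (σ i) ∈ X.basicOpen b.1 := by
        by_contra h
        push Not at h
        have h' : ∀ᶠ i in (F : Filter ι), ∀ b ∈ t, pt (σ i) ∉ X.basicOpen b.1 :=
          (Filter.eventually_all_finset t).2 fun b hb => h b hb
        obtain ⟨i, hi, hiS⟩ := (h'.and hS).exists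
        have := ht ⟨hiS, hW i W hW'⟩
        simp only [Set.mem_iUnion] at this
        obtain ⟨b, hb, hxb⟩ := this
        exact hi b hb hxb
      exact b.2 ((pt_mem_basicOpen U.2 φu b.1).2 ((hφu _).2 hb))
    · by_contra hmem
      obtain ⟨b, hb, hxb⟩ := U.2.exists_basicOpen_le (V := ⟨Cᶜ, hC.isOpen_compl⟩)
        ⟨pt σu, hmem⟩ (pt_mem U.2 φu)
      obtain ⟨i, hi⟩ := ((hφu b).1 ((pt_mem_basicOpen U.2 φu b).1 hxb)).exists
      exact hb hi (hCmem i)
    · rw [hρu, mem_uVal]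
      exact Eventually.of_forall fun i => hρ i r
    · have key : ∀ᶠ i in (F : Filter ι), rho f (σ i) r ≠ 0 ∧ (rho f (σ i) r)⁻¹ ∈ V i := by
        filter_upwards [hF ⟨r, hr⟩] with i ⟨c, hc⟩
        obtain ⟨h0, hinv⟩ := hg i
        rw [hc, map_mul] at h0 hinv
        refine ⟨left_ne_zero_of_mul h0, ?_⟩
        have := (V i).mul_mem _ _ (hρ i c) hinv
        rwa [mul_inv, mul_left_comm, mul_inv_cancel₀ (right_ne_zero_of_mul h0), mul_one] at this
      refine ⟨fun h => ?_, ?_⟩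
      · rw [hρu, toUProd_eq_zero] at h
        obtain ⟨i, hi, hi'⟩ := (h.and key).exists
        exact hi'.1 hi
      · rw [hρu, ← toUProd_inv, mem_uVal]
        exact key.mono fun i hi => hi.2
  obtain ⟨x, hx⟩ := hlift.exists_mem
  obtain ⟨U', hU's, hxU'⟩ := hs x
  obtain ⟨ψ, hψ, hψV⟩ := hx U'.1 U'.2 hxU'
  obtain ⟨b, hbU', hxb⟩ := U.2.exists_basicOpen_le (V := U'.1)
    ⟨pt σu, hψ ▸ pt_mem U'.2 ψ⟩ (pt_mem U.2 φu)
  have hD : IsAffineOpen (X.basicOpen b) := U.2.basicOpen b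
  have hbev := (hφu b).1 ((pt_mem_basicOpen U.2 φu b).1 hxb)
  let S' : Set ι := {i | pt (σ i) ∈ X.basicOpen b}
  have hS' : S' ∈ F := hbev
  choose χ hχ using fun (i : ι) (hi : i ∈ S') => exists_hom_of_mem hD (σ i) (show pt (σ i) ∈ X.basicOpen b from hi)
  let χu : Γ(X, X.basicOpen b) ⟶ CommRingCat.of (UProd F L) :=
    CommRingCat.ofHom (extendHom hS' fun i hi => (χ i hi).hom)
  let res := X.presheaf.map (homOfLE (X.basicOpen_le b)).op
  let res' := X.presheaf.map (homOfLE hbU').op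
  have hres : φu = res ≫ χu := by
    ext t
    show extendHom hS _ t = extendHom hS' _ (res.hom t)
    rw [extendHom_apply, extendHom_apply, toUProd_eq]
    filter_upwards [hS, hS'] with i hi hi'
    rw [dif_pos hi, dif_pos hi']
    have : φ i hi = res ≫ χ i hi' := hom_unique U.2 (by
      rw [hφ, Spec.map_comp, Category.assoc, U.2.map_fromSpec hD, hχ])
    rw [this]; rfl
  have hψeq : ψ = res' ≫ χu := hom_unique U'.2 (by
    rw [hψ, Spec.map_comp, Category.assoc, U'.2.map_fromSpec hD, ← U.2.map_fromSpec hD,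
      ← Spec.map_comp_assoc, ← hres])
  letI : Algebra R Γ(X, U'.1) := (alpha f U'.2).hom.toAlgebra
  haveI : Algebra.FiniteType R Γ(X, U'.1) := finiteType_alpha f U'.2
  obtain ⟨G, hG⟩ := Algebra.FiniteType.out (R := R) (A := Γ(X, U'.1))
  have hev : ∀ᶠ i in (F : Filter ι), ∀ c ∈ G, ∀ hi : i ∈ S', (χ i hi).hom (res'.hom c) ∈ V i := by
    refine (Filter.eventually_all_finset G).2 fun c _ => ?_
    have := hψV c
    rw [hψeq] at this
    change extendHom hS' _ (res'.hom c) ∈ uVal F V at this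
    rw [extendHom_apply, mem_uVal] at this
    filter_upwards [this] with i hi hi'
    rwa [dif_pos hi'] at hi
  obtain ⟨i, hi, hi'⟩ := (hev.and hS').exists
  refine hbad i ?_
  have e : Spec.map (res' ≫ χ i hi') ≫ U'.2.fromSpec = σ i := by
    rw [Spec.map_comp, Category.assoc, U'.2.map_fromSpec hD, hχ]
  rw [← e]
  refine lifts_of_forall_mem U'.2 _ _ fun a => ?_
  have ha : a ∈ Algebra.adjoin R (G : Set Γ(X, U'.1)) := hG ▸ Algebra.mem_top
  induction ha using Algebra.adjoin_induction with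
  | mem c hc => exact hi c hc hi'
  | algebraMap r =>
    have := hρ i r
    rwa [← e, rho_fromSpec] at this
  | add a b _ _ h1 h2 => rw [map_add]; exact add_mem h1 h2
  | mul a b _ _ h1 h2 => rw [map_mul]; exact mul_mem h1 h2

/-- If all valuations centred at generizations of `y` extend, so do all valuations centred in some
neighbourhood of `y`. The points considered lie in all members of `𝒲`. -/
theorem exists_notMem_forall_lifts (y : PrimeSpectrum R) (𝒲 : Set X.affineOpens)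
    (H : ∀ (L : Type u) [Field L] (σ : Spec (CommRingCat.of L) ⟶ X) (V : ValuationSubring L),
      (∀ W ∈ 𝒲, pt σ ∈ W.1) → (∀ r, rho f σ r ∈ V) →
      (∀ r ∉ y.asIdeal, rho f σ r ≠ 0 ∧ (rho f σ r)⁻¹ ∈ V) → Lifts σ V) :
    ∃ g ∉ y.asIdeal, ∀ (L : Type u) [Field L] (σ : Spec (CommRingCat.of L) ⟶ X) (V : ValuationSubring L),
      (∀ W ∈ 𝒲, pt σ ∈ W.1) → (∀ r, rho f σ r ∈ V) →
      (rho f σ g ≠ 0 ∧ (rho f σ g)⁻¹ ∈ V) → Lifts σ V := by
  obtain ⟨g, hg, h⟩ := exists_notMem_forall_lifts_inter f y 𝒲 Set.univ isClosed_univ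
    fun L _ σ V h1 _ h2 h3 => H L σ V h1 h2 h3
  exact ⟨g, hg, fun L _ σ V h1 h2 h3 => h L σ V h1 trivial h2 h3⟩

end Groth.Agent.ProperNhd
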