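import Mathlib.RingTheory.Valuation.ValuationSubring
import Mathlib.RingTheory.Ideal.Quotient.Basic
import Mathlib.Order.Filter.Ultrafilter.Basic
import Mathlib.Algebra.Ring.Subring.Basic
import Mathlib.Algebra.Ring.Pi

/-!
Ultraproducts of valued fields.
-/

universe u

namespace Groth.Agent.ProperNhd

open Filter

variable {ι : Type u} (F : Ultrafilter ι) (L : ι → Type u) [∀ i, Field (L i)]

/-- The families vanishing almost everywhere. -/
def nullIdeal : Ideal (Π i, L i) where
  carrier := {a | ∀ᶠ i in (F : Filter ι), a i = 0}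
  add_mem' {a b} ha hb := by
    filter_upwards [ha, hb] with i h1 h2
    simp [h1, h2]
  zero_mem' := Eventually.of_forall fun _ => rfl
  smul_mem' c a ha := by
    filter_upwards [ha] with i h
    simp [h]

instance : (nullIdeal F L).IsMaximal := by
  refine Ideal.isMaximal_iff.2 ⟨fun h => ?_, fun J a hJ ha haJ => ?_⟩
  · obtain ⟨i, hi⟩ := (h : ∀ᶠ i in (F : Filter ι), (1 : Π i, L i) i = 0).exists
    exact one_ne_zero hi
  · have ha' : ∀ᶠ i in (F : Filter ι), a i ≠ 0 := Ultrafilter.eventually_not.2 ha
    have h1 : (1 : Π i, L i) - a * a⁻¹ ∈ J := hJ <| by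
      show ∀ᶠ i in (F : Filter ι), ((1 : Π i, L i) - a * a⁻¹) i = 0
      filter_upwards [ha'] with i hi
      simp [mul_inv_cancel₀ hi]
    simpa using J.add_mem h1 (J.mul_mem_right a⁻¹ haJ)

/-- The ultraproduct of a family of fields. -/
abbrev UProd : Type u := (Π i, L i) ⧸ nullIdeal F L

noncomputable instance instFieldUProd : Field (UProd F L) := Ideal.Quotient.field _

abbrev toUProd : (Π i, L i) →+* UProd F L := Ideal.Quotient.mk _

variable {F L}

theorem toUProd_eq_zero {a : Π i, L i} :
    toUProd F L a = 0 ↔ ∀ᶠ i in (F : Filter ι), a i = 0 :=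
  Ideal.Quotient.eq_zero_iff_mem

theorem toUProd_eq {a b : Π i, L i} :
    toUProd F L a = toUProd F L b ↔ ∀ᶠ i in (F : Filter ι), a i = b i := by
  rw [← sub_eq_zero, ← map_sub, toUProd_eq_zero]
  simp [sub_eq_zero]

theorem toUProd_inv (a : Π i, L i) : toUProd F L a⁻¹ = (toUProd F L a)⁻¹ := by
  by_cases h : toUProd F L a = 0
  · rw [h, inv_zero, toUProd_eq_zero]
    filter_upwards [toUProd_eq_zero.1 h] with i hi
    simp [hi]
  · refine eq_inv_of_mul_eq_one_left ?_
    rw [← map_mul, ← map_one (toUProd F L), toUProd_eq]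
    filter_upwards [Ultrafilter.eventually_not.2 (mt toUProd_eq_zero.2 h)] with i hi
    simp [inv_mul_cancel₀ hi]

variable (F) in
/-- The valuation subring of an ultraproduct. -/
noncomputable def uVal (V : ∀ i, ValuationSubring (L i)) : ValuationSubring (UProd F L) where
  toSubring := (⨅ i, (V i).toSubring.comap (Pi.evalRingHom L i)).map (toUProd F L)
  mem_or_inv_mem' x := by
    classical
    obtain ⟨a, rfl⟩ := Ideal.Quotient.mk_surjective x
    have key : ∀ b : Π i, L i, (∀ᶠ i in (F : Filter ι), b i ∈ V i) →
        toUProd F L b ∈ (⨅ i, (V i).toSubring.comap (Pi.evalRingHom L i)).map (toUProd F L) := by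
      intro b hb
      refine ⟨fun i => if b i ∈ V i then b i else 0, Subring.mem_iInf.2 fun i => ?_, ?_⟩
      · show (if b i ∈ V i then b i else 0) ∈ (V i).toSubring
        split_ifs with h
        exacts [h, zero_mem _]
      · rw [toUProd_eq]
        filter_upwards [hb] with i hi
        simp [hi]
    rcases Ultrafilter.eventually_or.1
      (Eventually.of_forall fun i => (V i).mem_or_inv_mem (a i) :
        ∀ᶠ i in (F : Filter ι), a i ∈ V i ∨ (a i)⁻¹ ∈ V i) with h | h
    · exact Or.inl (key a h)
    · exact Or.inr ((toUProd_inv a).symm ▸ key a⁻¹ h :)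

theorem mem_uVal {V : ∀ i, ValuationSubring (L i)} {a : Π i, L i} :
    toUProd F L a ∈ uVal F V ↔ ∀ᶠ i in (F : Filter ι), a i ∈ V i := by
  classical
  constructor
  · rintro ⟨b, hb, hba⟩
    filter_upwards [toUProd_eq.1 hba] with i hi
    exact hi ▸ Subring.mem_iInf.1 hb i
  · intro ha
    refine ⟨fun i => if a i ∈ V i then a i else 0, Subring.mem_iInf.2 fun i => ?_, ?_⟩
    · show (if a i ∈ V i then a i else 0) ∈ (V i).toSubring
      split_ifs with h
      exacts [h, zero_mem _]
    · rw [toUProd_eq]
      filter_upwards [ha] with i hi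
      simp [hi]

variable {S : Set ι}

open Classical in
/-- A family of ring homomorphisms given almost everywhere. -/
noncomputable def extendHom (hS : S ∈ F) {T : Type u} [CommRing T] (φ : ∀ i ∈ S, T →+* L i) :
    T →+* UProd F L where
  toFun t := toUProd F L fun i => if h : i ∈ S then φ i h t else 0
  map_one' := by
    rw [← map_one (toUProd F L), toUProd_eq]
    filter_upwards [hS] with i hi
    simp [hi]
  map_zero' := by
    rw [toUProd_eq_zero]
    exact Eventually.of_forall fun i => by split_ifs <;> simp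
  map_mul' a b := by
    rw [← map_mul, toUProd_eq]
    filter_upwards [hS] with i hi
    simp [hi]
  map_add' a b := by
    rw [← map_add, toUProd_eq]
    filter_upwards [hS] with i hi
    simp [hi]

open Classical in
theorem extendHom_apply (hS : S ∈ F) {T : Type u} [CommRing T] (φ : ∀ i ∈ S, T →+* L i) (t : T) :
    extendHom hS φ t = toUProd F L fun i => if h : i ∈ S then φ i h t else 0 := rfl

end Groth.Agent.ProperNhd
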